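import Cfsg.Agent.Lib.TwicePrime.Basic
import Cfsg.Agent.Lib.CharApps.Galois
import Cfsg.Agent.Lib.Recog.OrderSixty
import Cfsg.Agent.Lib.Small.Order60

/-!
# The degree ten
-/

set_option autoImplicit false
set_option linter.unusedSectionVars false
set_option linter.style.haveILetI false

namespace CfsgLib.TwicePrime

open MulAction Cfsg CfsgLib.Chars

universe u

/-- Blichfeldt's divisibility for an integer valued character. -/
theorem card_dvd_prod {G : Type*} [Group G] [Fintype G] {φ : G → ℂ} (hφ : IsCharacter G φ)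
    {v : G → ℤ} (hv : ∀ g, φ g = (v g : ℂ)) {L : Finset ℤ} (hL : ∀ g, g ≠ 1 → v g ∈ L) :
    (Nat.card G : ℤ) ∣ ∏ l ∈ L, (v 1 - l) := by
  classical
  let F : Polynomial ℤ := ∏ l ∈ L, (Polynomial.X - Polynomial.C l)
  have hpow : ∀ i : ℕ, (Nat.card G : ℤ) ∣ ∑ g : G, v g ^ i := by
    intro i
    obtain ⟨m, hm⟩ := inner_char_nat (isCharacter_pow hφ i) (isCharacter_one (G := G))
    refine ⟨m, ?_⟩
    simp only [inner_def, Pi.pow_apply, map_one, mul_one, hv] at hm
    rw [inv_mul_eq_iff_eq_mul₀ (Nat.cast_ne_zero.2 Nat.card_pos.ne')] at hm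
    exact_mod_cast hm
  have hF : (Nat.card G : ℤ) ∣ ∑ g : G, F.eval (v g) := by
    simp only [Polynomial.eval_eq_sum_range, Finset.sum_comm (s := (Finset.univ : Finset G))]
    refine Finset.dvd_sum fun i _ => ?_
    rw [← Finset.mul_sum]
    exact dvd_mul_of_dvd_right (hpow i) _
  have hone : ∑ g : G, F.eval (v g) = F.eval (v 1) := by
    refine Finset.sum_eq_single 1 (fun g _ hg => ?_) (fun h => absurd (Finset.mem_univ _) h)
    simp only [F, Polynomial.eval_prod, Polynomial.eval_sub, Polynomial.eval_X, Polynomial.eval_C]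
    exact Finset.prod_eq_zero (hL g hg) (sub_self _)
  rw [hone] at hF
  simpa only [F, Polynomial.eval_prod, Polynomial.eval_sub, Polynomial.eval_X, Polynomial.eval_C]
    using hF

variable {α : Type u} [Fintype α] [DecidableEq α] {G : Subgroup (Equiv.Perm α)}

theorem five_case [Fact (Nat.Prime 5)] {P : Sylow 5 G} [Fintype G] (h : Hyp G P) :
    Nonempty (G ≃* alternatingGroup (Fin 5)) := by
  classical
  haveI : NeZero (Nat.card G) := ⟨Nat.card_pos.ne'⟩
  obtain ⟨θ, χ, hθd, hθf, hχd, huniq, hrel, hsing⟩ := h.exists_chars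
  -- the values are rational integers
  have hfix : ∀ σ : ℂ ≃+* ℂ, ∀ g, σ ((χ : G → ℂ) g) = (χ : G → ℂ) g := by
    intro σ g
    have h1 : CharApps.galoisIrr σ χ = χ := huniq _ (by
      refine Nat.cast_injective (R := ℂ) ?_
      rw [← CharApps.deg_eq, CharApps.galoisIrr_apply, CharApps.deg_eq, hχd, map_natCast])
    exact (CharApps.galoisIrr_apply σ χ g).symm.trans (by rw [h1])
  have hint : ∀ g, ∃ m : ℤ, (m : ℂ) = (χ : G → ℂ) g := fun g =>
    CharApps.exists_int_of_rat (char_isIntegral (isCharacter_of_irr χ.2) g)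
      (CharApps.exists_rat_of_fixed (N := Nat.card G)
        (CharApps.char_mem_cyclo (isCharacter_of_irr χ.2) g pow_card_eq_one')
        fun k σ _ _ => hfix σ g)
  choose v hv using hint
  have hv1 : v 1 = 4 := by
    have h1 := hv 1
    rw [CharApps.deg_eq, hχd] at h1
    exact_mod_cast h1
  -- the centre is trivial
  have hZ : Subgroup.center G = ⊥ := by
    by_contra hne
    have h1 := h.card_dvd_of_normal _ hne
    have h2 : Subgroup.center G ≤ (P : Subgroup G) :=
      h.centralizer_eq ▸ Subgroup.center_le_centralizer _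
    have h3 := h1.trans (Subgroup.card_dvd_of_le h2)
    rw [h.card_P] at h3
    norm_num at h3
  have hL : ∀ g, g ≠ 1 → v g ∈ Finset.Icc (-1 : ℤ) 3 := by
    intro g hg
    by_cases hp : 5 ∣ orderOf g
    · obtain ⟨Q, hQ⟩ := (IsPGroup.of_card (n := 1) (show Nat.card (Subgroup.zpowers g) = 5 ^ 1 by
        rw [Nat.card_zpowers, h.orderOf_eq hp, pow_one])).exists_le_sylow
      obtain ⟨c, hc⟩ := MulAction.exists_smul_eq G Q P
      have hmem : c * g * c⁻¹ ∈ (P : Subgroup G) := by
        rw [← hc, Sylow.coe_subgroup_smul, ← MulAut.conj_apply]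
        exact Subgroup.smul_mem_pointwise_smul _ _ _ (hQ (Subgroup.mem_zpowers g))
      have h1 := hsing _ hmem (fun e => hg (conj_eq_one_iff.1 e))
      rw [isClassFunction_irr χ g c, ← hv] at h1
      have h2 : v g = -1 := by exact_mod_cast h1
      rw [h2]; simp
    · obtain ⟨n, ρ, hρ, hθ⟩ := θ.2
      have hn : Module.finrank ℂ (Fin n → ℂ) = 3 := by
        have h1 := CharApps.deg_eq θ
        rw [← hθ, Representation.char_one] at h1
        rw [← hθ] at hθd
        have h2 : Module.finrank ℂ (Fin n → ℂ) = charDegree ρ.character := by exact_mod_cast h1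
        omega
      have hval : ρ.character g = ((v g - 1 : ℤ) : ℂ) := by
        rw [hθ, hrel g hp, ← hv]; push_cast; ring
      have hle := norm_character_le ρ g
      rw [hval, hn, Complex.norm_intCast] at hle
      have hne : ¬ |((v g - 1 : ℤ) : ℝ)| = 3 := by
        intro h3
        have h4 : ‖ρ.character g‖ = (Module.finrank ℂ (Fin n → ℂ) : ℝ) := by
          rw [hval, hn, Complex.norm_intCast]; exact_mod_cast h3
        obtain ⟨w, hw⟩ := (norm_character_eq_iff ρ g).1 h4
        refine hg (Subgroup.mem_bot.1 (hZ ▸ Subgroup.mem_center_iff.2 fun a => ?_))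
        have h5 : ρ (a * g * (g * a)⁻¹) = LinearMap.id := by
          rw [map_mul]
          have h6 : ρ (a * g) = ρ (g * a) := by
            rw [map_mul, map_mul, hw, mul_smul_comm, smul_mul_assoc]
            rfl
          rw [h6, ← map_mul, mul_inv_cancel, map_one]
          rfl
        refine mul_inv_eq_one.1 (hθf _ ?_)
        rw [← hθ, Representation.char_one, character_eq_finrank_iff]
        exact h5
      have hle' : |v g - 1| ≤ 3 := by exact_mod_cast hle
      have hne' : |v g - 1| ≠ 3 := fun e => hne (by exact_mod_cast e)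
      rw [Finset.mem_Icc]
      rw [abs_le] at hle'
      constructor <;> by_contra hc
      · exact hne' (by rw [show v g - 1 = -3 by omega]; rfl)
      · exact hne' (by rw [show v g - 1 = 3 by omega]; rfl)
  have h120 : Nat.card G ∣ 120 := by
    have h1 := card_dvd_prod (isCharacter_of_irr χ.2) (fun g => (hv g).symm) hL
    rw [hv1, show ∏ l ∈ Finset.Icc (-1 : ℤ) 3, ((4 : ℤ) - l) = ((120 : ℕ) : ℤ) by decide] at h1
    exact_mod_cast h1
  have hn : Nat.card (Sylow 5 G) = (Subgroup.normalizer ((P : Subgroup G) : Set G)).index :=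
    Sylow.card_eq_index_normalizer P
  have hmul := Subgroup.card_mul_index (Subgroup.normalizer ((P : Subgroup G) : Set G))
  rw [h.card_normalizer, ← hn] at hmul
  have hmod : Nat.card (Sylow 5 G) % 5 = 1 := card_sylow_modEq_one 5 G
  have hne : Nat.card (Sylow 5 G) ≠ 1 := fun e => by
    haveI : Subsingleton (Sylow 5 G) := (Nat.card_eq_one_iff_unique.1 e).1
    exact h.not_normal P.normal_of_subsingleton
  have hdvd : Nat.card (Sylow 5 G) ∣ 12 := by
    refine Nat.dvd_of_mul_dvd_mul_left (show 0 < 2 * 5 by norm_num) ?_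
    rw [hmul]; exact h120
  have hle := Nat.le_of_dvd (by norm_num) hdvd
  have h6 : Nat.card (Sylow 5 G) = 6 := by
    interval_cases Nat.card (Sylow 5 G) <;> omega
  have h60 : Nat.card G = 60 := by rw [← hmul, h6]
  haveI := Recog.isSimpleGroup_of_six h60 h6
  exact Small.equiv_alternating_five h60

end CfsgLib.TwicePrime
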