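import Mathlib

/-!
# `SL(2, 2 ^ a)` has no maximal subgroup of index `2 (2 ^ a + 1)`
-/

set_option autoImplicit false
set_option linter.style.haveILetI false

namespace CfsgLib.TwicePrime

open MulAction

/-- In characteristic two an element commuting with an involution of `SL(2, F)` squares to one. -/
theorem sl_two_sq_eq_one {F : Type*} [Field F] [CharP F 2]
    {g h : Matrix.SpecialLinearGroup (Fin 2) F} (hg : g * g = 1) (hg1 : g ≠ 1) (hc : Commute g h) :
    h * h = 1 := by
  have h2 : ∀ z : F, z + z = 0 := CharTwo.add_self_eq_zero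
  have hdg := g.2
  have hdh := h.2
  rw [Matrix.det_fin_two] at hdg hdh
  have hinv : g⁻¹ = g := inv_eq_of_mul_eq_one_right hg
  have e00 : (g : Matrix (Fin 2) (Fin 2) F) 1 1 = (g : Matrix (Fin 2) (Fin 2) F) 0 0 := by
    have := congrArg (fun m : Matrix.SpecialLinearGroup (Fin 2) F =>
      (m : Matrix (Fin 2) (Fin 2) F) 0 0) hinv
    simpa [Matrix.SpecialLinearGroup.coe_inv, Matrix.adjugate_fin_two] using this
  have hgh := congrArg (fun m : Matrix.SpecialLinearGroup (Fin 2) F =>
    (m : Matrix (Fin 2) (Fin 2) F)) hc.eq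
  simp only [Matrix.SpecialLinearGroup.coe_mul] at hgh
  have c01 := congrFun (congrFun hgh 0) 1
  have c10 := congrFun (congrFun hgh 1) 0
  simp only [Matrix.mul_apply, Fin.sum_univ_two] at c01 c10
  rw [e00] at c01 c10 hdg
  have hb : (g : Matrix (Fin 2) (Fin 2) F) 0 1 ≠ 0 ∨ (g : Matrix (Fin 2) (Fin 2) F) 1 0 ≠ 0 := by
    by_contra! h0
    obtain ⟨hb, hc0⟩ := h0
    rw [hb, zero_mul, sub_zero] at hdg
    have ha : (g : Matrix (Fin 2) (Fin 2) F) 0 0 = 1 := by
      have h4 : ((g : Matrix (Fin 2) (Fin 2) F) 0 0 - 1) * ((g : Matrix (Fin 2) (Fin 2) F) 0 0 - 1) = 0 := by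
        linear_combination hdg - h2 ((g : Matrix (Fin 2) (Fin 2) F) 0 0 - 1)
      exact sub_eq_zero.1 (mul_self_eq_zero.1 h4)
    refine hg1 (Subtype.ext ?_)
    ext i j
    fin_cases i <;> fin_cases j <;> simp [ha, hb, hc0, e00]
  have hd : (h : Matrix (Fin 2) (Fin 2) F) 1 1 = (h : Matrix (Fin 2) (Fin 2) F) 0 0 := by
    rcases hb with hb | hb
    · refine sub_eq_zero.1 ((mul_eq_zero.1 ?_).resolve_left hb)
      linear_combination c01
    · refine sub_eq_zero.1 ((mul_eq_zero.1 ?_).resolve_left hb)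
      linear_combination -c10
  refine Subtype.ext ?_
  rw [hd] at hdh
  ext i j
  fin_cases i <;> fin_cases j <;>
    simp [Matrix.mul_apply, Fin.sum_univ_two, hd]
  · linear_combination hdh + h2 ((h : Matrix (Fin 2) (Fin 2) F) 0 1 * (h : Matrix (Fin 2) (Fin 2) F) 1 0)
  · linear_combination h2 ((h : Matrix (Fin 2) (Fin 2) F) 0 0 * (h : Matrix (Fin 2) (Fin 2) F) 0 1)
  · linear_combination h2 ((h : Matrix (Fin 2) (Fin 2) F) 1 0 * (h : Matrix (Fin 2) (Fin 2) F) 0 0)
  · linear_combination hdh + h2 ((h : Matrix (Fin 2) (Fin 2) F) 0 1 * (h : Matrix (Fin 2) (Fin 2) F) 1 0)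

/-- The counting argument. -/
theorem no_maximal {G : Type*} [Group G] [Finite G] {a : ℕ} (ha : 3 ≤ a)
    (hcard : Nat.card G = 2 ^ a * ((2 ^ a + 1) * (2 ^ a - 1)))
    (hinv : ∀ t h : G, t * t = 1 → t ≠ 1 → Commute t h → h * h = 1)
    (hnorm : ∀ N : Subgroup G, N.Normal → (∀ g ∈ N, g * g = 1) → N = ⊥)
    (H : Subgroup G) (hmax : IsCoatom H) (hi : H.index = 2 * (2 ^ a + 1)) : False := by
  classical
  obtain ⟨b, rfl⟩ : ∃ b, a = b + 1 := ⟨a - 1, by omega⟩
  have h8 : 2 ^ 2 ≤ 2 ^ b := Nat.pow_le_pow_right two_pos (by omega)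
  rw [pow_succ] at hcard hi
  obtain ⟨r, hr⟩ : ∃ r, r = 2 ^ b := ⟨_, rfl⟩
  rw [← hr] at hcard hi h8
  have hH : Nat.card H = r * (r * 2 - 1) := by
    have h := H.card_mul_index
    rw [hcard, hi] at h
    refine Nat.eq_of_mul_eq_mul_right (show 0 < 2 * (r * 2 + 1) by omega) (h.trans ?_)
    ring
  have hfac : ∀ m : ℕ, ¬ 2 ∣ m → ∀ k, (2 ^ k * m).factorization 2 = k := fun m hm k => by
    have hm0 : m ≠ 0 := fun h => hm (by rw [h]; exact dvd_zero _)
    rw [Nat.factorization_mul (pow_ne_zero _ two_ne_zero) hm0, Finsupp.add_apply,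
      Nat.prime_two.factorization_pow, Finsupp.single_eq_same,
      Nat.factorization_eq_zero_of_not_dvd hm, add_zero]
  haveI : Fact (Nat.Prime 2) := ⟨Nat.prime_two⟩
  have hT : ∀ T : Sylow 2 H, Nat.card (T : Subgroup H) = r := fun T => by
    rw [T.card_eq_multiplicity, hH, hr, hfac _ (by omega) b]
  -- the centralisers of the involutions
  have hsq : ∀ t : G, t * t = 1 → t ≠ 1 → ∀ y ∈ Subgroup.centralizer ({t} : Set G), y * y = 1 :=
    fun t ht ht1 y hy => hinv t y ht ht1 (Subgroup.mem_centralizer_singleton_iff.1 hy).symm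
  have hUcomm : ∀ t : G, t * t = 1 → t ≠ 1 → ∀ y ∈ Subgroup.centralizer ({t} : Set G),
      ∀ z ∈ Subgroup.centralizer ({t} : Set G), y * z = z * y := by
    intro t ht ht1 y hy z hz
    have hi : ∀ w ∈ Subgroup.centralizer ({t} : Set G), w⁻¹ = w := fun w hw =>
      inv_eq_of_mul_eq_one_right (hsq t ht ht1 w hw)
    rw [← hi _ (mul_mem hy hz), mul_inv_rev, hi y hy, hi z hz]
  have hUeq : ∀ t s : G, t * t = 1 → t ≠ 1 → s * s = 1 → s ≠ 1 →
      s ∈ Subgroup.centralizer ({t} : Set G) →
      Subgroup.centralizer ({s} : Set G) = Subgroup.centralizer ({t} : Set G) := by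
    have key : ∀ t s : G, t * t = 1 → t ≠ 1 → s ∈ Subgroup.centralizer ({t} : Set G) →
        Subgroup.centralizer ({t} : Set G) ≤ Subgroup.centralizer ({s} : Set G) :=
      fun t s ht ht1 hs y hy =>
        Subgroup.mem_centralizer_singleton_iff.2 (hUcomm t ht ht1 y hy s hs)
    intro t s ht ht1 hs hs1 hst
    refine le_antisymm (key s t hs hs1 ?_) (key t s ht ht1 hst)
    exact Subgroup.mem_centralizer_singleton_iff.2 (Subgroup.mem_centralizer_singleton_iff.1 hst).symm
  have hSylU : ∀ t : G, t * t = 1 → t ≠ 1 →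
      r * 2 ∣ Nat.card (Subgroup.centralizer ({t} : Set G)) := by
    intro t ht ht1
    have ho : orderOf t = 2 := orderOf_eq_prime (by rw [pow_two, ht]) ht1
    obtain ⟨S, hS⟩ := (IsPGroup.of_card (n := 1) (show Nat.card (Subgroup.zpowers t) = 2 ^ 1 by
      rw [Nat.card_zpowers, ho, pow_one])).exists_le_sylow
    have hSc : Nat.card (S : Subgroup G) = r * 2 := by
      rw [S.card_eq_multiplicity, hcard, hr, ← pow_succ, hfac _ (fun h2 => ?_) (b + 1), pow_succ]
      rcases (Nat.Prime.dvd_mul Nat.prime_two).1 h2 with h | h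
      · rw [pow_succ] at h; omega
      · have : 1 ≤ 2 ^ b := Nat.one_le_two_pow
        rw [pow_succ] at h; omega
    haveI : Nontrivial (S : Subgroup G) :=
      Finite.one_lt_card_iff_nontrivial.1 (by rw [hSc]; omega)
    obtain ⟨z, hz, hz1⟩ : ∃ z ∈ Subgroup.center (S : Subgroup G), z * z = 1 ∧ z ≠ 1 := by
      haveI := S.isPGroup'.center_nontrivial
      obtain ⟨n, hn⟩ := (S.isPGroup'.to_subgroup (Subgroup.center (S : Subgroup G))).exists_card_eq
      have hn0 : n ≠ 0 := fun h => (Finite.one_lt_card_iff_nontrivial.2 inferInstance).ne'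
        (hn.trans (by rw [h, pow_zero]))
      obtain ⟨z, hz⟩ := exists_prime_orderOf_dvd_card' 2 (show 2 ∣ Nat.card (Subgroup.center
        (S : Subgroup G)) from hn ▸ dvd_pow_self 2 hn0)
      refine ⟨(z : (S : Subgroup G)), z.2, ?_, fun h => ?_⟩
      · have h := pow_orderOf_eq_one z
        rw [hz, pow_two] at h
        exact congrArg Subtype.val h
      · rw [← Subgroup.orderOf_coe, h, orderOf_one] at hz; omega
    have hz2 : ((z : (S : Subgroup G)) : G) * (z : G) = 1 := congrArg Subtype.val hz1.1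
    have hz1' : (z : G) ≠ 1 := fun h => hz1.2 (Subtype.ext h)
    have hSle : (S : Subgroup G) ≤ Subgroup.centralizer ({(z : G)} : Set G) := fun y hy =>
      Subgroup.mem_centralizer_singleton_iff.2
        (congrArg Subtype.val (Subgroup.mem_center_iff.1 hz ⟨y, hy⟩))
    rw [hUeq (z : G) t hz2 hz1' ht ht1 (hSle (hS (Subgroup.mem_zpowers t))), ← hSc]
    exact Subgroup.card_dvd_of_le hSle
  have hTinv : ∀ (T : Sylow 2 H) (y : H), y ∈ (T : Subgroup H) → y ≠ 1 →
      ∃ t : H, t ∈ (T : Subgroup H) ∧ (t : G) * (t : G) = 1 ∧ (t : G) ≠ 1 := by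
    intro T y hy hy1
    obtain ⟨t, ht⟩ := exists_prime_orderOf_dvd_card' 2 (show 2 ∣ Nat.card (T : Subgroup H) by
      rw [hT, hr]; exact dvd_pow_self 2 (by omega))
    refine ⟨t, t.2, ?_, fun h => ?_⟩
    · have h := pow_orderOf_eq_one t
      rw [ht, pow_two] at h
      exact congrArg (fun w : (T : Subgroup H) => ((w : H) : G)) h
    · rw [← Subgroup.orderOf_coe, ← Subgroup.orderOf_coe, h, orderOf_one] at ht; omega
  -- two Sylow subgroups of `H` meet trivially
  have hTI : ∀ (T T' : Sylow 2 H) (t : H), t ∈ (T : Subgroup H) → t ∈ (T' : Subgroup H) → t ≠ 1 →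
      T = T' := by
    intro T T' t ht ht' ht1
    have hex : ∀ S : Sylow 2 H, ∀ y ∈ (S : Subgroup H), y ≠ 1 → (y : G) * y = 1 ∧
        (S : Subgroup H) ≤ (Subgroup.centralizer ({(y : G)} : Set G)).subgroupOf H := by
      intro S y hy hy1
      have hy1' : (y : G) ≠ 1 := fun h => hy1 (Subtype.ext h)
      obtain ⟨n, hn⟩ := S.isPGroup'.exists_card_eq
      haveI : Nontrivial (S : Subgroup H) := ⟨⟨⟨y, hy⟩, 1, fun h => hy1 (congrArg Subtype.val h)⟩⟩
      haveI := S.isPGroup'.center_nontrivial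
      obtain ⟨n', hn'⟩ := (S.isPGroup'.to_subgroup (Subgroup.center (S : Subgroup H))).exists_card_eq
      have hn0 : n' ≠ 0 := fun h => (Finite.one_lt_card_iff_nontrivial.2 inferInstance).ne'
        (hn'.trans (by rw [h, pow_zero]))
      obtain ⟨z, hz⟩ := exists_prime_orderOf_dvd_card' 2 (show 2 ∣ Nat.card (Subgroup.center
        (S : Subgroup H)) from hn' ▸ dvd_pow_self 2 hn0)
      have hz2 : (((z : (S : Subgroup H)) : H) : G) * (((z : (S : Subgroup H)) : H) : G) = 1 := by
        have h := pow_orderOf_eq_one z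
        rw [hz, pow_two] at h
        exact congrArg (fun w : Subgroup.center (S : Subgroup H) => (((w : (S : Subgroup H)) : H) : G)) h
      have hz1 : (((z : (S : Subgroup H)) : H) : G) ≠ 1 := fun h => by
        rw [← Subgroup.orderOf_coe, ← Subgroup.orderOf_coe, ← Subgroup.orderOf_coe, h, orderOf_one] at hz
        omega
      have hSle : ∀ w ∈ (S : Subgroup H),
          (w : G) ∈ Subgroup.centralizer ({(((z : (S : Subgroup H)) : H) : G)} : Set G) := fun w hw =>
        Subgroup.mem_centralizer_singleton_iff.2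
          (congrArg (fun v : (S : Subgroup H) => ((v : H) : G)) (Subgroup.mem_center_iff.1 z.2 ⟨w, hw⟩))
      have hy2 := hsq _ hz2 hz1 _ (hSle y hy)
      refine ⟨hy2, fun w hw => ?_⟩
      rw [Subgroup.mem_subgroupOf, hUeq _ _ hz2 hz1 hy2 hy1' (hSle y hy)]
      exact hSle w hw
    obtain ⟨hty, hle⟩ := hex T t ht ht1
    obtain ⟨-, hle'⟩ := hex T' t ht' ht1
    have ht1' : (t : G) ≠ 1 := fun h => ht1 (Subtype.ext h)
    have hp : IsPGroup 2 ((Subgroup.centralizer ({(t : G)} : Set G)).subgroupOf H) := fun w =>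
      ⟨1, by
        rw [pow_one, pow_two]
        exact Subtype.ext (Subtype.ext (hsq _ hty ht1' _ (Subgroup.mem_subgroupOf.1 w.2)))⟩
    exact Sylow.ext ((T.is_maximal' hp hle).symm.trans (T'.is_maximal' hp hle'))
  obtain ⟨T⟩ : Nonempty (Sylow 2 H) := inferInstance
  obtain ⟨y, hy, hy1⟩ : ∃ y ∈ (T : Subgroup H), y ≠ 1 := by
    haveI : Nontrivial (T : Subgroup H) := Finite.one_lt_card_iff_nontrivial.1 (by rw [hT]; omega)
    obtain ⟨y, hy⟩ := exists_ne (1 : (T : Subgroup H))
    exact ⟨y, y.2, fun h => hy (Subtype.ext h)⟩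
  obtain ⟨t, htT, ht2, ht1⟩ := hTinv T y hy hy1
  by_cases hn1 : Nat.card (Sylow 2 H) = 1
  · -- `H` normalises the centraliser of `t`
    haveI : Subsingleton (Sylow 2 H) := (Nat.card_eq_one_iff_unique.1 hn1).1
    haveI := T.normal_of_subsingleton
    set U := Subgroup.centralizer ({(t : G)} : Set G) with hU
    have hTU : ∀ w ∈ (T : Subgroup H), (w : G) ∈ U := by
      intro w hw
      rcases eq_or_ne w 1 with rfl | hw1
      · exact one_mem _
      obtain ⟨n, hn⟩ := T.isPGroup'.exists_card_eq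
      haveI : Nontrivial (T : Subgroup H) := ⟨⟨⟨w, hw⟩, 1, fun h => hw1 (congrArg Subtype.val h)⟩⟩
      haveI := T.isPGroup'.center_nontrivial
      obtain ⟨n', hn'⟩ := (T.isPGroup'.to_subgroup (Subgroup.center (T : Subgroup H))).exists_card_eq
      have hn0 : n' ≠ 0 := fun h => (Finite.one_lt_card_iff_nontrivial.2 inferInstance).ne'
        (hn'.trans (by rw [h, pow_zero]))
      obtain ⟨z, hz⟩ := exists_prime_orderOf_dvd_card' 2 (show 2 ∣ Nat.card (Subgroup.center
        (T : Subgroup H)) from hn' ▸ dvd_pow_self 2 hn0)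
      have hzt : ∀ v ∈ (T : Subgroup H),
          (v : G) ∈ Subgroup.centralizer ({(((z : (T : Subgroup H)) : H) : G)} : Set G) := fun v hv =>
        Subgroup.mem_centralizer_singleton_iff.2
          (congrArg (fun u : (T : Subgroup H) => ((u : H) : G)) (Subgroup.mem_center_iff.1 z.2 ⟨v, hv⟩))
      have hz2 : (((z : (T : Subgroup H)) : H) : G) * (((z : (T : Subgroup H)) : H) : G) = 1 := by
        have h := pow_orderOf_eq_one z
        rw [hz, pow_two] at h
        exact congrArg (fun w : Subgroup.center (T : Subgroup H) => (((w : (T : Subgroup H)) : H) : G)) h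
      have hz1 : (((z : (T : Subgroup H)) : H) : G) ≠ 1 := fun h => by
        rw [← Subgroup.orderOf_coe, ← Subgroup.orderOf_coe, ← Subgroup.orderOf_coe, h, orderOf_one] at hz
        omega
      rw [hU, hUeq _ _ hz2 hz1 ht2 ht1 (hzt t htT)]
      exact hzt w hw
    have hconj : ∀ g ∈ H, ∀ w ∈ U, g * w * g⁻¹ ∈ U := by
      intro g hg w hw
      have hmem : g * (t : G) * g⁻¹ ∈ U :=
        hTU ((⟨g, hg⟩ : H) * t * (⟨g, hg⟩ : H)⁻¹) (Subgroup.Normal.conj_mem inferInstance t htT _)
      have h1 : g * (t : G) * g⁻¹ * (g * (t : G) * g⁻¹) = 1 := by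
        rw [conj_mul, ht2, mul_one, mul_inv_cancel]
      rw [hU, ← hUeq _ _ ht2 ht1 h1 (fun h => ht1 (conj_eq_one_iff.1 h)) hmem,
        Subgroup.mem_centralizer_singleton_iff, conj_mul, conj_mul,
        Subgroup.mem_centralizer_singleton_iff.1 hw]
    have hle : H ≤ Subgroup.normalizer (U : Set G) := by
      intro g hg
      rw [Subgroup.mem_normalizer_iff]
      refine fun w => ⟨hconj g hg w, fun hw => ?_⟩
      have := hconj g⁻¹ (inv_mem hg) _ hw
      rwa [inv_inv, show g⁻¹ * (g * w * g⁻¹) * g = w by group] at this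
    have hsqU := hsq _ ht2 ht1
    rcases eq_or_lt_of_le hle with h | h
    · have hUH : U ≤ H := by rw [h]; exact Subgroup.le_normalizer
      have h1 := (hSylU _ ht2 ht1).trans (Subgroup.card_dvd_of_le hUH)
      rw [hH] at h1
      have h2 := Nat.dvd_of_mul_dvd_mul_left (show 0 < r by omega) h1
      omega
    · have hUn : U.Normal := Subgroup.normalizer_eq_top_iff.1 (hmax.2 _ h)
      have := hnorm U hUn hsqU
      have htU : (t : G) ∈ U := Subgroup.mem_centralizer_singleton_iff.2 rfl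
      rw [this, Subgroup.mem_bot] at htU
      exact ht1 htU
  · -- the Sylow subgroups of `H` are congruent to one modulo `r`
    have hfree : ∀ T' : Sylow 2 H, T' ≠ T → stabilizer (T : Subgroup H) T' = ⊥ := by
      intro T' hne
      rw [eq_bot_iff]
      intro s hs
      rw [Subgroup.mem_bot]
      by_contra hs1
      refine hne (hTI T' T (s : H) ?_ s.2 fun h => hs1 (Subtype.ext h))
      have hsn : (s : H) ∈ Subgroup.normalizer ((T' : Subgroup H) : Set H) := by
        exact Sylow.smul_eq_iff_mem_normalizer.1 hs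
      have hpg : IsPGroup 2 (Subgroup.zpowers (s : H)) :=
        T.isPGroup'.to_le (Subgroup.zpowers_le.2 s.2)
      have := T'.is_maximal' (hpg.to_sup_of_normal_right' T'.isPGroup' (Subgroup.zpowers_le.2 hsn))
        le_sup_right
      rw [← this]
      exact Subgroup.mem_sup_left (Subgroup.mem_zpowers _)
    haveI := Fintype.ofFinite (Sylow 2 H)
    haveI := Fintype.ofFinite (orbitRel.Quotient (T : Subgroup H) (Sylow 2 H))
    have hdec : Nat.card (Sylow 2 H) =
        ∑ ω : orbitRel.Quotient (T : Subgroup H) (Sylow 2 H), Nat.card (orbit (T : Subgroup H) ω.out) := by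
      rw [Nat.card_congr (selfEquivSigmaOrbits (T : Subgroup H) (Sylow 2 H)), Nat.card_sigma]
    set ω₀ : orbitRel.Quotient (T : Subgroup H) (Sylow 2 H) := Quotient.mk'' T
    have hfix : ∀ s : (T : Subgroup H), s • T = T := fun s =>
      Sylow.smul_eq_iff_mem_normalizer.2 (Subgroup.le_normalizer s.2)
    have horb0 : ∀ T' : Sylow 2 H, T ∈ orbit (T : Subgroup H) T' → T' = T := by
      rintro T' ⟨s, hs⟩
      rw [← inv_smul_smul s T']
      show s⁻¹ • (fun m => m • T') s = T
      rw [hs, hfix]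
    have hmod : r ∣ Nat.card (Sylow 2 H) - 1 := by
      rw [hdec, ← Finset.add_sum_erase _ _ (Finset.mem_univ ω₀)]
      have h1 : Nat.card (orbit (T : Subgroup H) ω₀.out) = 1 := by
        have : ω₀.out = T := horb0 _ (by
          have := Quotient.mk_out' (s₁ := orbitRel (T : Subgroup H) (Sylow 2 H)) T
          exact mem_orbit_symm.1 (orbitRel_apply.1 this))
        rw [this, Nat.card_eq_one_iff_unique]
        exact ⟨⟨fun ⟨x, a, ha⟩ ⟨x', b, hb⟩ => Subtype.ext
          (ha.symm.trans ((hfix a).trans ((hfix b).symm.trans hb)))⟩, ⟨⟨T, mem_orbit_self T⟩⟩⟩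
      rw [h1, Nat.add_sub_cancel_left]
      refine Finset.dvd_sum fun ω hω => ?_
      have hne : ω.out ≠ T := fun h => (Finset.mem_erase.1 hω).1 (by
        rw [← Quotient.out_eq' ω, h])
      have h := MulAction.orbitEquivQuotientStabilizer (T : Subgroup H) ω.out
      rw [Nat.card_congr h, hfree _ hne, ← Subgroup.index, Subgroup.index_bot, hT]
    have hdvd : Nat.card (Sylow 2 H) ∣ r * 2 - 1 := by
      have h2 := T.card_dvd_index
      have h3 := (T : Subgroup H).card_mul_index
      rw [hT, hH] at h3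
      rwa [Nat.eq_of_mul_eq_mul_left (show 0 < r by omega) h3] at h2
    have hpos : 0 < Nat.card (Sylow 2 H) := Nat.card_pos
    obtain ⟨k, hk⟩ := hmod
    obtain ⟨l, hl⟩ := hdvd
    have hk0 : k ≠ 0 := fun h => by rw [h, mul_zero] at hk; omega
    have hn : Nat.card (Sylow 2 H) = r * k + 1 := by omega
    rw [hn] at hl
    have hl1 : l = 1 := by
      rcases Nat.lt_or_ge l 2 with h | h
      · rcases Nat.eq_zero_or_pos l with h0 | h0
        · rw [h0, mul_zero] at hl; omega
        · omega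
      · have h5 := Nat.mul_le_mul (show r + 1 ≤ r * k + 1 by
          have := Nat.le_mul_of_pos_right r (Nat.pos_of_ne_zero hk0); omega) h
        omega
    rw [hl1, mul_one] at hl
    rcases Nat.lt_or_ge k 2 with h | h
    · have hk1 : k = 1 := by omega
      subst hk1
      norm_num at h8
      omega
    · have := Nat.mul_le_mul_left r h
      omega

end CfsgLib.TwicePrime
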