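import Cfsg.Agent.Lib.Chars.PermChar
import Cfsg.Agent.Lib.CharApps.AbelianSylow
import Cfsg.Agent.Lib.Small.TwoPowerTwoPrimes
import Cfsg.Agent.S4441

/-!
# Primitive groups of degree `2p` with a dihedral Sylow normalizer
-/

set_option autoImplicit false
set_option linter.unusedSectionVars false
set_option linter.unusedVariables false
set_option linter.style.haveILetI false

namespace CfsgLib.TwicePrime

open MulAction Cfsg CfsgLib.Chars

universe u

variable {α : Type u} [Fintype α] [DecidableEq α] {p : ℕ} [Fact p.Prime]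

/-- The hypotheses. -/
structure Hyp (G : Subgroup (Equiv.Perm α)) (P : Sylow p G) : Prop where
  three_lt : 3 < p
  card : Fintype.card α = 2 * p
  prim : IsPreprimitive G α
  not_two : ¬ IsMultiplyPretransitive G α 2
  card_normalizer : Nat.card (Subgroup.normalizer ((P : Subgroup G) : Set G)) = 2 * p

variable {G : Subgroup (Equiv.Perm α)} {P : Sylow p G} [Fintype G]

theorem Hyp.card_dvd_of_normal (h : Hyp G P) (N : Subgroup G) [N.Normal] (hN : N ≠ ⊥) :
    2 * p ∣ Nat.card N := by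
  haveI := h.prim
  haveI : IsPretransitive N α := by
    refine IsQuasiPreprimitive.isPretransitive_of_normal (G := G) fun hfix => hN ?_
    rw [eq_bot_iff]
    intro n hn
    rw [Subgroup.mem_bot]
    refine Subtype.ext (Equiv.ext fun b => ?_)
    exact (hfix ▸ Set.mem_univ b : b ∈ fixedPoints N α) ⟨n, hn⟩
  obtain ⟨a⟩ : Nonempty α := Fintype.card_pos_iff.1 (by rw [h.card]; have := h.three_lt; omega)
  rw [← h.card, ← Nat.card_eq_fintype_card, ← Nat.card_congr (Equiv.Set.univ α),
    ← (orbit_eq_univ N a), Nat.card_congr (orbitEquivQuotientStabilizer N a)]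
  exact Subgroup.index_dvd_card _

theorem Hyp.dvd_card (h : Hyp G P) : 2 * p ∣ Nat.card G :=
  h.card_normalizer ▸ Subgroup.card_subgroup_dvd_card _

theorem Hyp.card_P (h : Hyp G P) : Nat.card (P : Subgroup G) = p := by
  have hp : p.Prime := Fact.out
  have h1 : Nat.card (P : Subgroup G) ∣ 2 * p :=
    h.card_normalizer ▸ Subgroup.card_dvd_of_le Subgroup.le_normalizer
  have h2 := P.card_eq_multiplicity
  have h3 : 1 ≤ (Nat.card G).factorization p :=
    (hp.dvd_iff_one_le_factorization Nat.card_pos.ne').1 ((dvd_mul_left p 2).trans h.dvd_card)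
  rw [h2]
  rw [h2] at h1
  have h4 : p ^ (Nat.card G).factorization p ∣ p :=
    (Nat.Coprime.pow_left _ ((Nat.coprime_primes hp Nat.prime_two).2
      (by have := h.three_lt; omega))).dvd_of_dvd_mul_left h1
  exact Nat.dvd_antisymm h4 (dvd_pow_self p (by omega))

theorem Hyp.not_normal_of_card (h : Hyp G P) {N : Subgroup G} [N.Normal] {k : ℕ}
    (hN : Nat.card N = p ^ k) : N = ⊥ := by
  by_contra hne
  have h1 := (dvd_mul_right 2 p).trans (h.card_dvd_of_normal N hne)
  rw [hN] at h1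
  have := (Nat.prime_dvd_prime_iff_eq Nat.prime_two (Fact.out : p.Prime)).1
    (Nat.prime_two.dvd_of_dvd_pow h1)
  have := h.three_lt
  omega

theorem Hyp.not_normal (h : Hyp G P) : ¬ (P : Subgroup G).Normal := by
  intro hn
  have h1 := h.not_normal_of_card (N := (P : Subgroup G)) (k := 1) (by rw [pow_one]; exact h.card_P)
  have h2 := h.card_P
  rw [h1, Subgroup.card_bot] at h2
  exact (Fact.out : p.Prime).ne_one h2.symm

theorem Hyp.centralizer_eq (h : Hyp G P) :
    Subgroup.centralizer ((P : Subgroup G) : Set G) = (P : Subgroup G) := by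
  have hp : p.Prime := Fact.out
  set C := Subgroup.centralizer ((P : Subgroup G) : Set G) with hC
  have hPC : (P : Subgroup G) ≤ C := fun y hy z hz =>
    Blocks.comm_of_prime_card h.card_P z hz y hy
  have hCN : C ≤ Subgroup.normalizer ((P : Subgroup G) : Set G) :=
    Subgroup.centralizer_le_normalizer _
  obtain ⟨k, hk⟩ := Subgroup.card_dvd_of_le hPC
  have h1 := Subgroup.card_dvd_of_le hCN
  rw [h.card_normalizer, hk, h.card_P, mul_comm 2 p] at h1
  rcases (Nat.dvd_prime Nat.prime_two).1 (Nat.dvd_of_mul_dvd_mul_left hp.pos h1) with h2 | h2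
  · rw [h2, mul_one] at hk
    exact (Subgroup.eq_of_le_of_card_ge hPC hk.le).symm
  · exfalso
    have hNC : Subgroup.normalizer ((P : Subgroup G) : Set G) ≤ C := by
      refine (Subgroup.eq_of_le_of_card_ge hCN ?_).ge
      rw [h.card_normalizer, hk, h.card_P, h2, mul_comm]
    have hcompl := MonoidHom.ker_transferSylow_isComplement' P hNC
    have hndvd := MonoidHom.not_dvd_card_ker_transferSylow P hNC
    set K := (MonoidHom.transferSylow P hNC).ker
    by_cases hK : K = ⊥
    · have h3 := hcompl.card_mul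
      rw [hK, Subgroup.card_bot, one_mul] at h3
      exact h.not_normal (by rw [Subgroup.eq_top_of_card_eq _ h3]; infer_instance)
    · exact hndvd ((dvd_mul_left p 2).trans (h.card_dvd_of_normal K hK))

theorem Hyp.relIndex_eq (h : Hyp G P) :
    (Subgroup.centralizer ((P : Subgroup G) : Set G)).relIndex
      (Subgroup.normalizer ((P : Subgroup G) : Set G)) = 2 := by
  rw [h.centralizer_eq, Subgroup.relIndex]
  have h1 := Subgroup.card_mul_index ((P : Subgroup G).subgroupOf
    (Subgroup.normalizer ((P : Subgroup G) : Set G)))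
  rw [Nat.card_congr (Subgroup.subgroupOfEquivOfLe Subgroup.le_normalizer).toEquiv, h.card_P,
    h.card_normalizer, mul_comm 2 p] at h1
  exact Nat.eq_of_mul_eq_mul_left (Fact.out : p.Prime).pos h1

theorem Hyp.exists_mem_P (h : Hyp G P) : ∃ u ∈ (P : Subgroup G), u ≠ 1 ∧ orderOf u = p := by
  obtain ⟨u, hu⟩ := exists_prime_orderOf_dvd_card' (G := (P : Subgroup G)) p h.card_P.symm.dvd
  refine ⟨u, u.2, fun h1 => ?_, by rw [Subgroup.orderOf_coe, hu]⟩
  rw [← Subgroup.orderOf_coe, h1, orderOf_one] at hu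
  exact (Fact.out : p.Prime).ne_one hu.symm

theorem Hyp.card_centralizer (h : Hyp G P) {u : G} (hu : u ∈ (P : Subgroup G)) (hu1 : u ≠ 1) :
    Nat.card (Subgroup.centralizer ({u} : Set G)) = p := by
  rw [← Subgroup.centralizer_closure, ← Subgroup.zpowers_eq_closure,
    Blocks.zpowers_eq_of_prime_card h.card_P hu hu1, h.centralizer_eq, h.card_P]

/-- Every element of order divisible by `p` has order `p`. -/
theorem Hyp.orderOf_eq (h : Hyp G P) {g : G} (hg : p ∣ orderOf g) : orderOf g = p := by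
  have hp : p.Prime := Fact.out
  obtain ⟨m, hm⟩ := hg
  have hm0 : m ≠ 0 := fun h0 => (orderOf_pos g).ne' (by rw [hm, h0, mul_zero])
  have ho1 : orderOf (g ^ m) = p := by
    rw [orderOf_pow_of_dvd hm0 ⟨p, by rw [hm, mul_comm]⟩, hm, Nat.mul_div_cancel _ (by omega)]
  obtain ⟨Q, hQ⟩ := (IsPGroup.of_card (n := 1) (show Nat.card (Subgroup.zpowers (g ^ m)) = p ^ 1 by
    rw [Nat.card_zpowers, ho1, pow_one])).exists_le_sylow
  obtain ⟨c, hc⟩ := MulAction.exists_smul_eq G Q P
  have hmem : c * g ^ m * c⁻¹ ∈ (P : Subgroup G) := by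
    rw [← hc, Sylow.coe_subgroup_smul, ← MulAut.conj_apply]
    exact Subgroup.smul_mem_pointwise_smul _ _ _ (hQ (Subgroup.mem_zpowers _))
  have hne : c * g ^ m * c⁻¹ ≠ 1 := fun h1 => hp.ne_one (by
    rw [← ho1, conj_eq_one_iff.1 h1, orderOf_one])
  have hcomm : c * g * c⁻¹ ∈ (P : Subgroup G) := by
    rw [← h.centralizer_eq, ← Blocks.zpowers_eq_of_prime_card h.card_P hmem hne,
      Subgroup.mem_centralizer_iff]
    rintro _ ⟨j, rfl⟩
    rw [← conj_pow]
    exact ((((Commute.refl (c * g * c⁻¹)).pow_right m).zpow_right j).eq).symm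
  have h1 := Subgroup.orderOf_dvd_natCard _ hcomm
  rw [h.card_P, ← MulAut.conj_apply, MulEquiv.orderOf_eq] at h1
  exact ((Nat.dvd_prime hp).1 h1).resolve_left fun h2 => by
    rw [hm] at h2
    exact hp.ne_one (Nat.eq_one_of_mul_eq_one_right h2)

theorem Hyp.le_of_normal (h : Hyp G P) (N : Subgroup G) [N.Normal] (hN : N ≠ ⊥) :
    (P : Subgroup G) ≤ N := by
  have hp : p.Prime := Fact.out
  obtain ⟨c, hc⟩ := exists_prime_orderOf_dvd_card' (G := N) p
    ((dvd_mul_left p 2).trans (h.card_dvd_of_normal N hN))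
  obtain ⟨Q, hQ⟩ := (IsPGroup.of_card (n := 1) (show Nat.card (Subgroup.zpowers (c : G)) = p ^ 1 by
    rw [Nat.card_zpowers, Subgroup.orderOf_coe, hc, pow_one])).exists_le_sylow
  obtain ⟨d, hd⟩ := MulAction.exists_smul_eq G Q P
  have hmem : d * c * d⁻¹ ∈ (P : Subgroup G) := by
    rw [← hd, Sylow.coe_subgroup_smul, ← MulAut.conj_apply]
    exact Subgroup.smul_mem_pointwise_smul _ _ _ (hQ (Subgroup.mem_zpowers _))
  have hne : d * c * d⁻¹ ≠ 1 := fun h1 => hp.ne_one (by
    rw [← hc, ← Subgroup.orderOf_coe, conj_eq_one_iff.1 h1, orderOf_one])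
  rw [← Blocks.zpowers_eq_of_prime_card h.card_P hmem hne, Subgroup.zpowers_le]
  exact Subgroup.Normal.conj_mem inferInstance _ c.2 d

theorem exists_kernel {G : Type*} [Group G] [Finite G] (θ : IrrCharacter G) :
    ∃ N : Subgroup G, N.Normal ∧ ∀ g, g ∈ N ↔ (θ : G → ℂ) g = (θ : G → ℂ) 1 := by
  obtain ⟨n, ρ, -, hθ⟩ := θ.2
  refine ⟨ρ.ker, inferInstance, fun g => ?_⟩
  rw [← hθ, Representation.char_one, character_eq_finrank_iff, MonoidHom.mem_ker]
  rfl

/-- A small constituent of the permutation character. -/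
theorem Hyp.exists_small (h : Hyp G P) :
    ∃ η : IrrCharacter G, η ≠ principal G ∧ charDegree (η : G → ℂ) < p := by
  classical
  haveI := irrFintype G
  haveI := h.prim
  haveI : IsPretransitive G α := inferInstance
  by_contra! hbig
  have hπ : IsCharacter G (fun g : G => (Nat.card (fixedBy α g) : ℂ)) := isCharacter_fixedBy
  choose c hc using fun η : IrrCharacter G => inner_irr_right_nat hπ η
  have hexp := classFun_eq_sum (isClassFunction_of_isCharacter hπ)
  simp only [hc] at hexp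
  have hc1 : c (principal G) = 1 := by
    refine Nat.cast_injective (R := ℂ) ?_
    rw [← hc]
    show classInner _ (fun _ => (1 : ℂ)) = _
    rw [inner_fixedBy_one, Nat.cast_one, Nat.cast_eq_one, Nat.card_eq_one_iff_unique]
    obtain ⟨a⟩ : Nonempty α := Fintype.card_pos_iff.1 (by rw [h.card]; have := h.three_lt; omega)
    refine ⟨⟨fun x y => ?_⟩, ⟨Quotient.mk'' a⟩⟩
    obtain ⟨x, rfl⟩ := Quotient.mk''_surjective x
    obtain ⟨y, rfl⟩ := Quotient.mk''_surjective y
    rw [Quotient.eq'', orbitRel_apply, mem_orbit_iff]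
    exact exists_smul_eq G y x
  have hdeg : 2 * p = ∑ η : IrrCharacter G, c η * charDegree (η : G → ℂ) := by
    have h1 := congrFun hexp 1
    rw [Finset.sum_apply, fixedBy_one_eq_univ, Nat.card_coe_set_eq, Set.ncard_univ,
      Nat.card_eq_fintype_card, h.card] at h1
    refine Nat.cast_injective (R := ℂ) ?_
    rw [h1, Nat.cast_sum]
    exact Finset.sum_congr rfl fun η _ => by
      rw [Pi.smul_apply, smul_eq_mul, CharApps.deg_eq, Nat.cast_mul]
  rw [← Finset.add_sum_erase _ _ (Finset.mem_univ (principal G)), hc1,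
    (CharApps.deg_eq_one_iff (principal G)).mp (principal_apply _)] at hdeg
  have hle : ∑ η ∈ Finset.univ.erase (principal G), c η * p ≤
      ∑ η ∈ Finset.univ.erase (principal G), c η * charDegree (η : G → ℂ) :=
    Finset.sum_le_sum fun η hη => Nat.mul_le_mul_left _ (hbig η (Finset.mem_erase.1 hη).1)
  rw [← Finset.sum_mul] at hle
  have hsum : ∑ η ∈ Finset.univ.erase (principal G), c η = 1 := by
    rcases Nat.lt_or_ge (∑ η ∈ Finset.univ.erase (principal G), c η) 1 with h0 | h0
    · have hz : ∀ η ∈ Finset.univ.erase (principal G), c η * charDegree (η : G → ℂ) = 0 :=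
        fun η hη => by
          rw [Finset.sum_eq_zero_iff.1
            (show ∑ η ∈ Finset.univ.erase (principal G), c η = 0 by omega) η hη, zero_mul]
      rw [Finset.sum_eq_zero hz] at hdeg
      have := h.three_lt
      omega
    · by_contra hne
      have := Nat.mul_le_mul_right p (show 2 ≤ ∑ η ∈ Finset.univ.erase (principal G), c η by omega)
      omega
  obtain ⟨η, hη, hη1⟩ : ∃ η ∈ Finset.univ.erase (principal G), c η ≠ 0 := by
    by_contra! h0
    rw [Finset.sum_eq_zero (f := c) h0] at hsum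
    exact zero_ne_one hsum
  rw [← Finset.add_sum_erase _ _ hη] at hsum
  have hzero : ∀ ψ ∈ (Finset.univ.erase (principal G)).erase η, c ψ = 0 :=
    Finset.sum_eq_zero_iff.1 (by omega)
  have hη' : c η = 1 := by omega
  refine h.not_two ((isIrr_fixedBy_sub_one_iff (X := α) (G := G)
    (by rw [Nat.card_eq_fintype_card, h.card]; have := h.three_lt; omega)).1 ?_)
  have heq : (fun g : G => (Nat.card (fixedBy α g) : ℂ) - 1) = (η : G → ℂ) := by
    funext g
    have h1 := congrFun hexp g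
    have h2 : ∑ ψ ∈ (Finset.univ.erase (principal G)).erase η,
        ((c ψ : ℂ) • (ψ : G → ℂ)) g = 0 :=
      Finset.sum_eq_zero fun ψ hψ => by rw [hzero ψ hψ, Nat.cast_zero, zero_smul]; rfl
    rw [Finset.sum_apply, ← Finset.add_sum_erase _ _ (Finset.mem_univ (principal G)),
      ← Finset.add_sum_erase _ _ hη, h2] at h1
    rw [h1, Pi.smul_apply, Pi.smul_apply, hc1, hη', principal_apply]
    simp
  rw [heq]
  exact η.2

theorem Hyp.normSq_le (h : Hyp G P) [Fintype (IrrCharacter G)] {u : G}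
    (hu : u ∈ (P : Subgroup G)) (hu1 : u ≠ 1) (S : Finset (IrrCharacter G)) :
    ∑ ψ ∈ S, Complex.normSq ((ψ : G → ℂ) u) ≤ (p : ℝ) := by
  classical
  have h1 := second_orthogonality u u
  rw [if_pos (IsConj.refl u), h.card_centralizer hu hu1] at h1
  simp only [Complex.mul_conj] at h1
  have h2 : ∑ ψ : IrrCharacter G, Complex.normSq ((ψ : G → ℂ) u) = (p : ℝ) := by exact_mod_cast h1
  rw [← h2]
  exact Finset.sum_le_univ_sum_of_nonneg fun ψ => Complex.normSq_nonneg _

/-- **The exceptional characters.** -/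
theorem Hyp.exists_chars (h : Hyp G P) :
    ∃ θ χ : IrrCharacter G, charDegree (θ : G → ℂ) = p - 2 ∧
      (∀ g, (θ : G → ℂ) g = (θ : G → ℂ) 1 → g = 1) ∧
      charDegree (χ : G → ℂ) = p - 1 ∧
      (∀ ψ : IrrCharacter G, charDegree (ψ : G → ℂ) = p - 1 → ψ = χ) ∧
      (∀ g, ¬ p ∣ orderOf g → (θ : G → ℂ) g = (χ : G → ℂ) g - 1) ∧
      (∀ u ∈ (P : Subgroup G), u ≠ 1 → (χ : G → ℂ) u = -1) := by
  classical
  have hp : p.Prime := Fact.out
  have h3 := h.three_lt
  have hp4 : p ≠ 4 := fun e => absurd (e ▸ hp) (by norm_num)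
  haveI := irrFintype G
  obtain ⟨M, hM⟩ := CharApps.exists_pModular p
  haveI := hM.2.1.isPrime
  obtain ⟨X, Y, hB, hdisj, hX, hY, εX, ε, hXp, hε, hYdeg, hYeq, hrel⟩ :=
    Agent.S4441.result p M hM (by omega) P h.card_P 2 h.relIndex_eq
  have hmemB : ∀ ψ : IrrCharacter G, ¬ p ∣ charDegree (ψ : G → ℂ) → ψ ∈ X ∪ Y := fun ψ hψ =>
    hB ▸ Small.mem_principalBlock_of_selfCentral hM P h.card_P h.centralizer_eq ψ hψ
  have hdone : charDegree (principal G : G → ℂ) = 1 :=
    (CharApps.deg_eq_one_iff (principal G)).mp (principal_apply _)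
  have hεc : ε = 1 ∨ ε = -1 := hε
  have hmod : ∀ (k : ℕ) (z : ℤ), (k : ℤ) ≡ z [ZMOD p] → (k : ℤ) - z ≤ -(p : ℤ) ∨ (k : ℤ) = z ∨
      (k : ℤ) - z = p ∨ 2 * (p : ℤ) ≤ (k : ℤ) - z := by
    intro k z hkz
    obtain ⟨m, hm⟩ := hkz.symm.dvd
    rcases lt_trichotomy m 0 with hneg | h0 | hpos
    · left; rw [hm]; nlinarith
    · right; left; rw [h0, mul_zero] at hm; linarith
    · right; right
      rcases eq_or_ne m 1 with rfl | hm1
      · left; rw [hm, mul_one]
      · right; rw [hm]; nlinarith [show 2 ≤ m by omega]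
  have hprin : principal G ∈ X := by
    refine (hmemB (principal G) (by rw [hdone]; exact hp.not_dvd_one)).resolve_right fun hy => ?_
    have h1 := hmod _ _ (hYdeg _ hy)
    rw [hdone] at h1
    push_cast at h1
    rcases hεc with rfl | rfl <;> omega
  obtain ⟨ξ, hξX, hξu⟩ := (Nat.card_eq_two_iff' (⟨principal G, hprin⟩ : X)).1 hX |>.exists.elim
    fun z hz => (show ∃ ξ ∈ X, ξ ≠ principal G from ⟨z.1, z.2, fun h => hz (Subtype.ext h)⟩)
  have hXeq : X = {principal G, ξ} := by
    refine Set.Subset.antisymm (fun z hz => ?_)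
      (Set.insert_subset hprin (Set.singleton_subset_iff.2 hξX))
    by_contra hne
    simp only [Set.mem_insert_iff, Set.mem_singleton_iff, not_or] at hne
    have := ((Nat.card_eq_two_iff' (⟨principal G, hprin⟩ : X)).1 hX).unique
      (y₁ := ⟨z, hz⟩) (y₂ := ⟨ξ, hξX⟩) (fun h => hne.1 (congrArg Subtype.val h))
      (fun h => hξu (congrArg Subtype.val h))
    exact hne.2 (congrArg Subtype.val this)
  have hεp : εX (principal G) = 1 := by
    have h1 := hmod _ _ (hXp _ hprin).2.1
    rw [hdone] at h1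
    refine (hXp _ hprin).1.resolve_right fun h2 => ?_
    rw [h2] at h1
    omega
  set s : ℤ := εX ξ with hs
  have hs1 : s = 1 ∨ s = -1 := (hXp ξ hξX).1
  have hregrel : ∀ θ ∈ Y, ∀ g : G, ¬ p ∣ orderOf g →
      (ε : ℂ) * (θ : G → ℂ) g = 1 + (s : ℂ) * (ξ : G → ℂ) g := by
    intro θ hθ g hg
    have h1 := hrel θ hθ g hg
    rw [hXeq, finsum_mem_pair (Ne.symm hξu), hεp, principal_apply] at h1
    simpa using h1
  have hYc : 4 ≤ 2 * Nat.card Y ∧ 2 * Nat.card Y + 1 = p := by
    obtain ⟨r, hr⟩ := hp.odd_of_ne_two (by omega)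
    have hp5 : 5 ≤ p := by omega
    rw [hY]
    omega
  have hdegrel : ∀ θ ∈ Y, ε * (charDegree (θ : G → ℂ) : ℤ) = 1 + s * charDegree (ξ : G → ℂ) := by
    intro θ hθ
    have h1 := hregrel θ hθ 1 (by rw [orderOf_one]; exact hp.not_dvd_one)
    rw [CharApps.deg_eq, CharApps.deg_eq] at h1
    exact_mod_cast h1
  have hξval : ∀ u ∈ (P : Subgroup G), u ≠ 1 → (ξ : G → ℂ) u = (s : ℂ) := by
    intro u hu hu1
    have h1 := (hXp ξ hξX).2.2 u hu hu1 1 (one_mem _) (by rw [orderOf_one]; exact hp.not_dvd_one)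
    rwa [mul_one] at h1
  obtain ⟨θ₀, hθ₀⟩ : ∃ θ, θ ∈ Y := by
    by_contra! h0
    have h1 : Nat.card Y = 0 := by rw [Nat.card_eq_zero]; exact Or.inl ⟨fun z => h0 z.1 z.2⟩
    omega
  obtain ⟨u, hu, hu1, hou⟩ := h.exists_mem_P
  -- the group has no linear character in the block
  have hξ1 : charDegree (ξ : G → ℂ) ≠ 1 := by
    intro hx
    have hsx := hmod _ _ (hXp ξ hξX).2.1
    rw [← hs, hx] at hsx
    have hs' : s = 1 := by rcases hs1 with h1 | h1 <;> rw [h1] at hsx ⊢ <;> omega
    have hy : ∀ θ ∈ Y, ε = 1 ∧ charDegree (θ : G → ℂ) = 2 := by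
      intro θ hθ
      have h1 := hdegrel θ hθ
      rw [hx, hs'] at h1
      rcases hεc with rfl | rfl <;> omega
    obtain ⟨K, hK, hKmem⟩ := exists_kernel ξ
    haveI := hK
    have hker : ∀ θ ∈ Y, (θ : G → ℂ) u = 2 := by
      intro θ hθ
      obtain ⟨hε1, hd⟩ := hy θ hθ
      obtain ⟨N, hN, hNmem⟩ := exists_kernel θ
      haveI := hN
      have hθ1 : (θ : G → ℂ) 1 = 2 := by rw [CharApps.deg_eq, hd, Nat.cast_ofNat]
      by_cases hN0 : N = ⊥
      · exfalso
        have hKp : IsPGroup p K := by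
          intro k
          refine ⟨1, ?_⟩
          rw [pow_one]
          by_cases hdvd : p ∣ orderOf (k : G)
          · refine Subtype.ext ?_
            rw [SubmonoidClass.coe_pow, ← h.orderOf_eq hdvd, pow_orderOf_eq_one, OneMemClass.coe_one]
          · have h1 := hregrel θ hθ k hdvd
            rw [hε1, hs', (hKmem _).1 k.2, CharApps.deg_eq ξ, hx] at h1
            have h2 : (k : G) ∈ N := (hNmem _).2 (by rw [hθ1]; push_cast at h1; linear_combination h1)
            rw [hN0, Subgroup.mem_bot] at h2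
            rw [Subtype.ext h2 (a2 := (1 : K)), one_pow]
        obtain ⟨n, hn⟩ := hKp.exists_card_eq
        have hKbot := h.not_normal_of_card hn
        have huK : u ∈ K := (hKmem _).2 (by
          rw [hξval u hu hu1, hs', CharApps.deg_eq, hx]; simp)
        rw [hKbot, Subgroup.mem_bot] at huK
        exact hu1 huK
      · rw [(hNmem u).1 (h.le_of_normal N hN0 hu), hθ1]
    have h1 := h.normSq_le hu hu1 Y.toFinset
    rw [Finset.sum_congr rfl (g := fun _ => (4 : ℝ)) fun θ hθ => by
      rw [hker θ (Set.mem_toFinset.1 hθ)]; norm_num [Complex.normSq_apply],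
      Finset.sum_const, nsmul_eq_mul, Set.toFinset_card, ← Nat.card_eq_fintype_card] at h1
    have h2 : (p : ℝ) = 2 * Nat.card Y + 1 := by exact_mod_cast hYc.2.symm
    have h4 : (4 : ℝ) ≤ 2 * Nat.card Y := by exact_mod_cast hYc.1
    linarith
  -- a small character
  obtain ⟨η, hη1, hηp⟩ := h.exists_small
  have hη0 : charDegree (η : G → ℂ) ≠ 0 := fun h0 =>
    irr_degree_ne_zero η.2 (by rw [CharApps.deg_eq, h0, Nat.cast_zero])
  have hfacts : charDegree (ξ : G → ℂ) = p - 1 ∧ s = -1 := by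
    have hsx := hmod _ _ (hXp ξ hξX).2.1
    rw [← hs] at hsx
    rcases hmemB η (Nat.not_dvd_of_pos_of_lt (Nat.pos_of_ne_zero hη0) hηp) with hηX | hηY
    · rw [hXeq] at hηX
      rcases hηX with rfl | rfl
      · exact absurd rfl hη1
      · rcases hs1 with h1 | h1 <;> rw [h1] at hsx ⊢ <;> constructor <;> omega
    · have h1 := hdegrel η hηY
      have h2 := hmod _ _ (hYdeg η hηY)
      push_cast at h2
      rcases hεc with rfl | rfl <;> rcases hs1 with h5 | h5 <;> rw [h5] at h1 hsx ⊢ <;>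
        constructor <;> omega
  obtain ⟨hx, hsneg⟩ := hfacts
  have hεy : ∀ θ ∈ Y, ε = -1 ∧ charDegree (θ : G → ℂ) = p - 2 := by
    intro θ hθ
    have h1 := hdegrel θ hθ
    rw [hx, hsneg] at h1
    rcases hεc with rfl | rfl <;> omega
  obtain ⟨hε1, hθd⟩ := hεy θ₀ hθ₀
  refine ⟨θ₀, ξ, hθd, fun g hg => ?_, hx, fun ψ hψ => ?_, fun g hg => ?_, fun v hv hv1 => ?_⟩
  · obtain ⟨N, hN, hNmem⟩ := exists_kernel θ₀
    haveI := hN
    by_contra hg1
    have hN0 : N ≠ ⊥ := fun hb => hg1 (Subgroup.mem_bot.1 (hb ▸ (hNmem g).2 hg))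
    have h1 := h.normSq_le hu hu1 {θ₀}
    rw [Finset.sum_singleton, (hNmem u).1 (h.le_of_normal N hN0 hu), CharApps.deg_eq, hθd,
      Complex.normSq_natCast] at h1
    have h2 : (p - 2) * (p - 2) ≤ p := by exact_mod_cast h1
    have h5 : 5 ≤ p := by omega
    nlinarith [Nat.sub_add_cancel (show 2 ≤ p by omega)]
  · rcases hmemB ψ (by rw [hψ]; exact Nat.not_dvd_of_pos_of_lt (by omega) (by omega)) with h1 | h1
    · rw [hXeq] at h1
      rcases h1 with rfl | rfl
      · rw [hdone] at hψ; omega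
      · rfl
    · have h2 := (hεy ψ h1).2
      omega
  · have h1 := hregrel θ₀ hθ₀ g hg
    rw [hε1, hsneg] at h1
    push_cast at h1
    linear_combination -h1
  · rw [hξval v hv hv1, hsneg]; norm_num

end CfsgLib.TwicePrime
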